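import Cfsg.Agent.Lib.Comp.XB.Base

set_option maxRecDepth 100000
set_option Elab.async false

namespace Cfsg.Lib.Comp.XB

universe u

noncomputable def nets_1 : Net :=
 (Net.cons 4 (nat_lit 0xc)
 (Net.cons 2 (nat_lit 0x2)
 (Net.cons 1 (nat_lit 0x54)
 (Net.cons 2 (nat_lit 0x21)
 (Net.cons 4 (nat_lit 0xc)
 Net.nil)))))

noncomputable def nets_3 : Net :=
 (Net.cons 4 (nat_lit 0x4)
 (Net.cons 2 (nat_lit 0x20)
 (Net.cons 1 (nat_lit 0x14)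
 (Net.cons 2 (nat_lit 0x32)
 (Net.cons 4 (nat_lit 0x7)
 Net.nil)))))

noncomputable def nets_5 : Net :=
 (Net.cons 4 (nat_lit 0x4)
 (Net.cons 2 (nat_lit 0x2)
 (Net.cons 1 (nat_lit 0x51)
 (Net.cons 2 (nat_lit 0x21)
 (Net.cons 4 (nat_lit 0x8)
 Net.nil)))))

noncomputable def nets_7 : Net :=
 (Net.cons 4 (nat_lit 0xc)
 (Net.cons 1 (nat_lit 0x44)
 (Net.cons 2 (nat_lit 0x3)
 (Net.cons 4 (nat_lit 0x3)
 Net.nil))))

noncomputable def nets_9 : Net :=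
 (Net.cons 2 (nat_lit 0x20)
 (Net.cons 1 (nat_lit 0x44)
 (Net.cons 2 (nat_lit 0x32)
 Net.nil)))

noncomputable def nets_11 : Net :=
 (Net.cons 4 (nat_lit 0xc)
 (Net.cons 2 (nat_lit 0x2)
 (Net.cons 1 (nat_lit 0x51)
 (Net.cons 2 (nat_lit 0x2)
 (Net.cons 4 (nat_lit 0xc)
 Net.nil)))))

noncomputable def nets_64 : Net :=
 (Net.cons 4 (nat_lit 0xc)
 (Net.cons 2 (nat_lit 0x2)
 (Net.cons 1 (nat_lit 0x54)
 (Net.cons 2 (nat_lit 0x2)
 (Net.cons 4 (nat_lit 0xc)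
 Net.nil)))))

noncomputable def nets_65 : Net :=
 (Net.cons 4 (nat_lit 0xc)
 (Net.cons 1 (nat_lit 0x50)
 (Net.cons 2 (nat_lit 0x10)
 (Net.cons 4 (nat_lit 0xc)
 Net.nil))))

noncomputable def nets : List Net := (apd [Net.nil,
 nets_1,
 Net.rev nets_1,
 nets_3,
 Net.rev nets_3,
 nets_5,
 Net.rev nets_5,
 nets_7,
 Net.rev nets_7,
 nets_9,
 Net.rev nets_9,
 nets_11,
 Net.nil,
 Net.nil,
 Net.nil,
 Net.nil,
 Net.nil,
 Net.nil,
 Net.nil,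
 Net.nil,
 Net.nil,
 Net.nil,
 Net.nil,
 Net.nil,
 Net.nil,
 Net.nil,
 Net.nil,
 Net.nil,
 Net.nil,
 Net.nil,
 Net.nil,
 Net.nil,
 Net.nil,
 Net.nil,
 Net.nil,
 Net.nil,
 Net.nil,
 Net.nil,
 Net.nil,
 Net.nil]
 [Net.nil,
 Net.nil,
 Net.nil,
 Net.nil,
 Net.nil,
 Net.nil,
 Net.nil,
 Net.nil,
 Net.nil,
 Net.nil,
 Net.nil,
 Net.nil,
 Net.nil,
 Net.nil,
 Net.nil,
 Net.nil,
 Net.nil,
 Net.nil,
 Net.nil,
 Net.nil,
 Net.nil,
 Net.nil,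
 Net.nil,
 Net.nil,
 nets_64,
 nets_65,
 Net.rev nets_65])

theorem nets_ok : NetsOK 8 nets := netsOK_of (by decide +kernel)

theorem nets_rel : Rels (gp nets) R := rels_of_relsB (k := 3) nets_ok (by norm_num) (by decide +kernel)

theorem nets_iv : IvOK (gp nets) iv := ivOK_of_ivB (k := 3) nets_ok (by norm_num) (by decide +kernel)

noncomputable def slp : List (ℕ × List ℕ) := [(64,[11,5,2]),
 (65,[10,64,10]),
 (66,[9,64,9])]

theorem slp_ok : slpB 8 3 nets slp L = true := by decide +kernel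

theorem mem_all {x : ℕ} (h : x ∈ L ++ slp.map (·.1)) : gp nets x ∈ cl (gp nets) L :=
  cl_eq_of_slpB nets_ok (by norm_num) slp_ok ▸ mem_cl h

theorem lb : 192 ≤ Nat.card (cl (gp nets) L) := by
  rw [← cl_eq_of_slpB nets_ok (by norm_num) slp_ok]
  exact lb_of_chainB nets_ok (C := [([9,10,64,65,66],[1,3,11,1],0,0,8),
 ([65,66],[9,64,9,9],1,1,6),
 ([],[65,65,65],2,2,4)]) (by decide +kernel)

end Cfsg.Lib.Comp.XB
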